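import Mathlib

/-!
# Contractions of principal ideals in factorial rings
-/

set_option autoImplicit false
set_option linter.all false

universe u

namespace GrothLib.CartierExt10

variable {A : Type u} [CommRing A] [IsDomain A] [UniqueFactorizationMonoid A]

theorem exists_sat_one (h a : A) (hah : h ≠ 0 → a ≠ 0) :
    ∃ L : A, L ≠ 0 ∧ ∀ b, L ∣ b ↔ ∃ n : ℕ, a ∣ h ^ n * b := by
  by_cases h0 : h = 0
  · exact ⟨1, one_ne_zero, fun b => iff_of_true (one_dvd b) ⟨1, by simp [h0]⟩⟩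
  replace hah := hah h0
  induction a using UniqueFactorizationMonoid.induction_on_prime with
  | h₁ => exact absurd rfl hah
  | h₂ x hx => exact ⟨1, one_ne_zero, fun b => iff_of_true (one_dvd b) ⟨0, hx.dvd⟩⟩
  | h₃ a p ha hp ih =>
    obtain ⟨L, hL0, hL⟩ := ih ha
    by_cases hph : p ∣ h
    · refine ⟨L, hL0, fun b => (hL b).trans ⟨fun ⟨n, hn⟩ => ⟨n + 1, ?_⟩, fun ⟨n, hn⟩ => ⟨n, (dvd_mul_left a p).trans hn⟩⟩⟩
      rw [pow_succ', mul_assoc]
      exact mul_dvd_mul hph hn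
    · refine ⟨p * L, mul_ne_zero hp.ne_zero hL0, fun b => ⟨?_, ?_⟩⟩
      · rintro ⟨c, rfl⟩
        obtain ⟨n, hn⟩ := (hL (L * c)).1 (dvd_mul_right L c)
        exact ⟨n, by rw [mul_assoc p L c, mul_left_comm]; exact mul_dvd_mul_left p hn⟩
      · rintro ⟨n, hn⟩
        have hpb : p ∣ b := (hp.dvd_or_dvd ((dvd_mul_right p a).trans hn)).resolve_left
          fun h' => hph (hp.dvd_of_dvd_pow h')
        obtain ⟨c, rfl⟩ := hpb
        rw [mul_left_comm] at hn
        exact mul_dvd_mul_left p ((hL c).2 ⟨n, (mul_dvd_mul_iff_left hp.ne_zero).1 hn⟩)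

/-- Finitely many contractions of principal ideals meet in a principal ideal. -/
theorem exists_sat_finset {ι : Type*} (s : Finset ι) (h a : ι → A) (hah : ∀ i ∈ s, h i ≠ 0 → a i ≠ 0) :
    ∃ L : A, L ≠ 0 ∧ ∀ b, L ∣ b ↔ ∀ i ∈ s, ∃ n : ℕ, a i ∣ h i ^ n * b := by
  classical
  letI := Nonempty.some (α := NormalizedGCDMonoid A) inferInstance
  induction s using Finset.induction with
  | empty => exact ⟨1, one_ne_zero, fun b => iff_of_true (one_dvd b) (by simp)⟩
  | insert i t hi ih =>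
    obtain ⟨L, hL0, hL⟩ := ih fun j hj => hah j (Finset.mem_insert_of_mem hj)
    obtain ⟨L', hL'0, hL'⟩ := exists_sat_one (h i) (a i) (hah i (Finset.mem_insert_self i t))
    refine ⟨lcm L' L, lcm_ne_zero_iff.2 ⟨hL'0, hL0⟩, fun b => ?_⟩
    rw [lcm_dvd_iff, hL', hL, Finset.forall_mem_insert]

end GrothLib.CartierExt10
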