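import Groth.Agent.Lib.CartierExt10.Algebra
import Groth.Agent.Lib.BlowUp.UFD
import Groth.Agent.Lib.Nagata6.Comp
import Groth.Agent.Lib.BlowUp.EffCartier

/-!
# Effective Cartier divisors extend across points with factorial local rings
-/

set_option autoImplicit false
set_option linter.all false
set_option backward.isDefEq.respectTransparency false
set_option maxHeartbeats 1000000

universe u

open CategoryTheory AlgebraicGeometry TopologicalSpace

noncomputable section

namespace GrothLib.CartierExt10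

open GrothLib.BlowUp (CartierOn)

variable {X : Scheme.{u}}

/-- An ideal sheaf with principal stalk at a point of a locally Noetherian scheme is Cartier near it. -/
theorem exists_cartierOn_of_stalk_span [IsLocallyNoetherian X] (I : X.IdealSheafData) (V : X.affineOpens)
    (P : PrimeSpectrum Γ(X, V.1)) (hxV : V.2.fromSpec P ∈ V.1) [IsDomain (X.presheaf.stalk (V.2.fromSpec P))]
    (g : Γ(X, V.1)) (hg0 : X.presheaf.germ V.1 _ hxV g ≠ 0)
    (hJ' : (I.ideal V).map (X.presheaf.germ V.1 _ hxV).hom = Ideal.span {X.presheaf.germ V.1 _ hxV g}) :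
    ∃ U : X.affineOpens, V.2.fromSpec P ∈ U.1 ∧ CartierOn I U := by
  set x := V.2.fromSpec P
  let algX : Algebra Γ(X, V.1) (X.presheaf.stalk x) :=
    TopCat.Presheaf.algebra_section_stalk X.presheaf (⟨x, hxV⟩ : V.1)
  have hloc : IsLocalization.AtPrime (X.presheaf.stalk x) P.asIdeal :=
    V.2.isLocalization_stalk' P hxV
  have : IsNoetherianRing Γ(X, V.1) := IsLocallyNoetherian.component_noetherian V
  set J := (I.ideal V).map (algebraMap Γ(X, V.1) (X.presheaf.stalk x))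
  replace hJ' : J = Ideal.span {algebraMap Γ(X, V.1) (X.presheaf.stalk x) g} := hJ'
  replace hg0 : algebraMap Γ(X, V.1) (X.presheaf.stalk x) g ≠ 0 := hg0
  obtain ⟨c₁, hc₁, hgI⟩ : ∃ c₁ ∉ P.asIdeal, c₁ * g ∈ I.ideal V :=
    (IsLocalization.algebraMap_mem_map_algebraMap_iff P.asIdeal.primeCompl _ _ g).mp
      (hJ'.ge (Ideal.mem_span_singleton_self _))
  have key : ∀ r ∈ I.ideal V, ∃ c ∉ P.asIdeal, c * r ∈ Ideal.span {g} := fun r hr => by
    refine (IsLocalization.algebraMap_mem_map_algebraMap_iff P.asIdeal.primeCompl (X.presheaf.stalk x) _ r).mp ?_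
    rw [Ideal.map_span, Set.image_singleton, ← hJ']
    exact Ideal.mem_map_of_mem _ hr
  choose! c hc hcr using key
  have key₂ : ∀ r, r * g = 0 → ∃ d ∉ P.asIdeal, d * r = 0 := fun r hr => by
    have h0 : algebraMap Γ(X, V.1) (X.presheaf.stalk x) r = 0 := by
      refine (mul_eq_zero.mp ?_).resolve_right hg0
      rw [← map_mul, hr, map_zero]
    obtain ⟨⟨d, hd⟩, e⟩ := (IsLocalization.map_eq_zero_iff P.asIdeal.primeCompl _ r).mp h0
    exact ⟨d, hd, e⟩
  choose! d hd hdr using key₂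
  obtain ⟨S, hS⟩ := IsNoetherian.noetherian (I.ideal V)
  let Kg : Ideal Γ(X, V.1) := LinearMap.ker (LinearMap.toSpanSingleton Γ(X, V.1) Γ(X, V.1) g)
  obtain ⟨T, hT⟩ := IsNoetherian.noetherian Kg
  have hTg : ∀ r ∈ T, r * g = 0 := fun r hr => by
    have : r ∈ Kg := hT ▸ Ideal.subset_span hr
    simpa [Kg, LinearMap.mem_ker] using this
  set e := c₁ * (∏ r ∈ S, c r) * (∏ r ∈ T, d r) with he
  have heP : e ∉ P.asIdeal := by
    refine fun h => (P.isPrime.mem_or_mem h).elim (fun h => (P.isPrime.mem_or_mem h).elim hc₁ fun h => ?_) fun h => ?_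
    · rw [Ideal.IsPrime.prod_mem_iff] at h
      obtain ⟨r, hr, hcr'⟩ := h
      exact hc r (hS ▸ Ideal.subset_span hr) hcr'
    · rw [Ideal.IsPrime.prod_mem_iff] at h
      obtain ⟨r, hr, hcr'⟩ := h
      exact hd r (hTg r hr) hcr'
  let U : X.affineOpens := X.affineBasicOpen e
  have hUV : U.1 ≤ V.1 := X.basicOpen_le e
  have hxU : x ∈ U.1 := (GrothLib.WeakAss.notMem_primeAt_iff (hx := hxV)).mp (by
    rw [GrothLib.WeakAss.primeAt_fromSpec V.2 P hxV]; exact heP)
  let algU : Algebra Γ(X, V.1) Γ(X, U.1) := (X.presheaf.map (homOfLE hUV).op).hom.toAlgebra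
  have : IsLocalization.Away e Γ(X, U.1) := V.2.isLocalization_basicOpen e
  set ρ := (X.presheaf.map (homOfLE hUV).op).hom
  have halg : ρ = algebraMap Γ(X, V.1) Γ(X, U.1) := rfl
  have heu : IsUnit (ρ e) :=
    RingedSpace.isUnit_res_basicOpen (X := X.toLocallyRingedSpace.toRingedSpace) e
  have hmap := I.map_ideal (U := U) (V := V) hUV
  refine ⟨U, hxU, ρ g, ?_, le_antisymm ?_ ?_⟩
  · rw [mem_nonZeroDivisors_iff_right]
    intro t ht
    obtain ⟨t₀, u, rfl⟩ := IsLocalization.exists_mk'_eq (Submonoid.powers e) t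
    rw [mul_comm, halg, IsLocalization.mul_mk'_eq_mk'_of_mul, IsLocalization.mk'_eq_zero_iff] at ht
    obtain ⟨⟨_, n, rfl⟩, hn⟩ := ht
    have hmem : e ^ n * t₀ ∈ Kg := by
      simp only [Kg, LinearMap.mem_ker, LinearMap.toSpanSingleton_apply, smul_eq_mul]
      rw [mul_assoc, mul_comm t₀ g]; exact hn
    rw [← hT] at hmem
    have hz : ∀ r ∈ Ideal.span (T : Set Γ(X, V.1)), e * r = 0 := by
      intro r hr
      refine Submodule.span_induction (fun r hrT => ?_) (mul_zero _) ?_ ?_ hr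
      · obtain ⟨k, hk⟩ := Finset.dvd_prod_of_mem d (SetLike.mem_coe.1 hrT)
        rw [he, hk, show c₁ * (∏ r ∈ S, c r) * (d r * k) * r = c₁ * (∏ r ∈ S, c r) * k * (d r * r) by ring,
          hdr r (hTg r hrT), mul_zero]
      · intro a b _ _ ha hb; rw [mul_add, ha, hb, add_zero]
      · intro a b _ hb; rw [smul_eq_mul, mul_left_comm, hb, mul_zero]
    rw [IsLocalization.mk'_eq_zero_iff]
    exact ⟨⟨e ^ (n + 1), n + 1, rfl⟩, show e ^ (n + 1) * t₀ = 0 by rw [pow_succ', mul_assoc]; exact hz _ hmem⟩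
  · rw [← hmap, Ideal.map_le_iff_le_comap, ← hS, Ideal.span_le]
    intro r hrS
    obtain ⟨k, hk⟩ := Finset.dvd_prod_of_mem c (SetLike.mem_coe.1 hrS)
    have h1 : e * r ∈ Ideal.span {g} := by
      rw [he, hk, show c₁ * (c r * k) * (∏ r ∈ T, d r) * r = c₁ * k * (∏ r ∈ T, d r) * (c r * r) by ring]
      exact Ideal.mul_mem_left _ _ (hcr r (hS ▸ Ideal.subset_span hrS))
    have h2 := Ideal.mem_map_of_mem ρ h1
    rw [Ideal.map_span, Set.image_singleton, map_mul] at h2
    exact (Ideal.unit_mul_mem_iff_mem _ heu).mp h2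
  · rw [Ideal.span_singleton_le_iff_mem, ← hmap]
    have h1 : e * g ∈ I.ideal V := by
      rw [he, show c₁ * (∏ r ∈ S, c r) * (∏ r ∈ T, d r) * g = (∏ r ∈ S, c r) * (∏ r ∈ T, d r) * (c₁ * g) by ring]
      exact Ideal.mul_mem_left _ _ hgI
    have h2 := Ideal.mem_map_of_mem ρ h1
    rw [map_mul] at h2
    exact (Ideal.unit_mul_mem_iff_mem _ heu).mp h2


section Extension

variable [IsLocallyNoetherian X] (U : X.Opens) (D : (U : Scheme.{u}).IdealSheafData)

/-- The affine open of `U` below an affine open of `X` contained in `U`. -/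
def pre (W : X.affineOpens) (hW : W.1 ≤ U) : (U : Scheme.{u}).affineOpens :=
  ⟨U.ι ⁻¹ᵁ W.1, W.2.preimage_of_isOpenImmersion _ (by rwa [Scheme.Opens.opensRange_ι])⟩

theorem bijective_app (W : X.affineOpens) (hW : W.1 ≤ U) : Function.Bijective (U.ι.app W.1).hom := by
  have : IsIso (U.ι.app W.1) := U.ι.isIso_app _ (by rwa [Scheme.Opens.opensRange_ι])
  exact ConcreteCategory.bijective_of_isIso _

theorem comap_map_eq : (D.map U.ι).comap U.ι = D := by
  have hM : ∀ (W : X.affineOpens) (hW : W.1 ≤ U),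
      (D.map U.ι).ideal W = (D.ideal (pre U W hW)).comap (U.ι.app W.1).hom := by
    intro W hW
    refine le_antisymm (fun a ha => ?_) fun a ha => ?_
    · refine (Scheme.IdealSheafData.le_map_iff_comap_le.mp (le_refl (D.map U.ι))) (pre U W hW) ?_
      rw [GrothLib.BlowUp.ideal_comap_eq_map (D.map U.ι) U.ι W (pre U W hW) le_rfl, Scheme.Hom.app_eq_appLE]
      exact Ideal.mem_map_of_mem _ ha
    · refine Nagata6.mem_map_ideal U.ι D W (fun _ : PUnit.{1} => pre U W hW) (fun _ => le_rfl)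
        (fun x hx => ⟨⟨⟩, hx⟩) a fun _ => ?_
      rw [Ideal.mem_comap, Scheme.Hom.app_eq_appLE] at ha
      exact ha
  refine le_antisymm (Scheme.IdealSheafData.le_map_iff_comap_le.mp le_rfl) ?_
  refine Scheme.IdealSheafData.le_of_iSup_eq_top (fun W : {W : X.affineOpens // W.1 ≤ U} => pre U W.1 W.2)
    (top_unique fun x _ => ?_) fun W => ?_
  · obtain ⟨W, hW, hxW, hWU⟩ := exists_isAffineOpen_mem_and_subset x.2
    exact Opens.mem_iSup.mpr ⟨⟨⟨W, hW⟩, hWU⟩, hxW⟩
  · rw [GrothLib.BlowUp.ideal_comap_eq_map _ U.ι W.1 (pre U W.1 W.2) le_rfl, hM W.1 W.2, Scheme.Hom.app_eq_appLE]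
    refine (Ideal.map_comap_of_surjective _ ?_ _).ge
    have := (bijective_app U W.1 W.2).2
    rw [Scheme.Hom.app_eq_appLE] at this
    exact this

variable {U D}

theorem exists_cartierOn_map (hD : BlowUp.IsEffCartierIdeal D) {y : X} (hy : y ∈ U) :
    ∃ W : X.affineOpens, y ∈ W.1 ∧ W.1 ≤ U ∧ CartierOn (D.map U.ι) W := by
  obtain ⟨V', hyV', f, hf, hV'⟩ := hD ⟨y, hy⟩
  let W : X.affineOpens := ⟨U.ι ''ᵁ V'.1, V'.2.image_of_isOpenImmersion U.ι⟩
  refine ⟨W, ⟨⟨y, hy⟩, hyV', rfl⟩, (U.ι.image_le_opensRange _).trans (by rw [Scheme.Opens.opensRange_ι]), ?_⟩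
  rw [← comap_map_eq U D, Scheme.IdealSheafData.ideal_comap_of_isOpenImmersion] at hV'
  let φ := (U.ι.appIso V'.1).inv.hom
  have hφ : Function.Bijective φ := ConcreteCategory.bijective_of_isIso (U.ι.appIso V'.1).inv
  refine ⟨φ f, ?_, ?_⟩
  · rw [mem_nonZeroDivisors_iff_right]
    intro t ht
    obtain ⟨t', rfl⟩ := hφ.2 t
    rw [← map_mul, map_eq_zero_iff _ hφ.1] at ht
    rw [(mem_nonZeroDivisors_iff_right.1 hf) t' ht, map_zero]
  · show (D.map U.ι).ideal W = _
    rw [← Ideal.map_comap_of_surjective φ hφ.2 ((D.map U.ι).ideal W)]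
    erw [hV']
    rw [Ideal.map_span, Set.image_singleton]

/-- An effective Cartier divisor extends across points with factorial local rings. -/
theorem isEffCartierIdeal_map (hD : BlowUp.IsEffCartierIdeal D)
    (hufd : ∀ x : X, x ∉ U → IsDomain (X.presheaf.stalk x) ∧ UniqueFactorizationMonoid (X.presheaf.stalk x)) :
    BlowUp.IsEffCartierIdeal (D.map U.ι) := by
  intro x
  by_cases hxU : x ∈ U
  · obtain ⟨W, hW, -, hC⟩ := exists_cartierOn_map hD hxU
    exact ⟨W, hW, hC⟩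
  obtain ⟨hdom, hufd'⟩ := hufd x hxU
  obtain ⟨V, hxV, -⟩ := GrothLib.BlowUp.exists_affine_mem_le (W := (⊤ : X.Opens)) (x := x) trivial
  obtain ⟨P, rfl⟩ := V.2.range_fromSpec.ge hxV
  set x := V.2.fromSpec P
  let algX : Algebra Γ(X, V.1) (X.presheaf.stalk x) :=
    TopCat.Presheaf.algebra_section_stalk X.presheaf (⟨x, hxV⟩ : V.1)
  have hloc : IsLocalization.AtPrime (X.presheaf.stalk x) P.asIdeal :=
    V.2.isLocalization_stalk' P hxV
  set M := D.map U.ι
  -- finitely many charts of `U` inside `V`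
  have hch : ∀ y : (V.1 ⊓ U : X.Opens), ∃ h : Γ(X, V.1), y.1 ∈ X.basicOpen h ∧ X.basicOpen h ≤ U ∧
      CartierOn M (X.affineBasicOpen h) := by
    intro y
    obtain ⟨W, hyW, hWU, hC⟩ := exists_cartierOn_map hD y.2.2
    obtain ⟨h, hh, hyh⟩ := V.2.exists_basicOpen_le (V := W.1) ⟨y.1, hyW⟩ y.2.1
    exact ⟨h, hyh, hh.trans hWU, hC.mono hh⟩
  choose h hyh hhU hC using hch
  have hcpt : IsCompact ((V.1 ⊓ U : X.Opens) : Set X) := by
    have h1 := (U.ι.isCompact_preimage V.2.isCompact).image U.ι.continuous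
    convert h1 using 1
    show (V.1 : Set X) ∩ U = U.ι '' (U.ι ⁻¹' V.1)
    rw [Set.image_preimage_eq_inter_range, Scheme.Opens.range_ι]
  obtain ⟨s, hs⟩ := hcpt.elim_finite_subcover (fun y => (X.basicOpen (h y) : Set X)) (fun y => (X.basicOpen (h y)).2)
    fun y hy => Set.mem_iUnion.2 ⟨⟨y, hy⟩, hyh ⟨y, hy⟩⟩
  have hgen : ∀ y, ∃ a : Γ(X, V.1), (X.presheaf.map (homOfLE (X.basicOpen_le (h y))).op).hom a ∈
      nonZeroDivisors Γ(X, X.basicOpen (h y)) ∧ M.ideal (X.affineBasicOpen (h y)) =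
        Ideal.span {(X.presheaf.map (homOfLE (X.basicOpen_le (h y))).op).hom a} := by
    intro y
    letI : Algebra Γ(X, V.1) Γ(X, X.basicOpen (h y)) := (X.presheaf.map (homOfLE (X.basicOpen_le (h y))).op).hom.toAlgebra
    haveI : IsLocalization.Away (h y) Γ(X, X.basicOpen (h y)) := V.2.isLocalization_basicOpen (h y)
    obtain ⟨f, hf, hM⟩ := hC y
    obtain ⟨⟨a, w⟩, hw⟩ := IsLocalization.surj (M := Submonoid.powers (h y)) (S := Γ(X, X.basicOpen (h y))) f
    have hu := IsLocalization.map_units Γ(X, X.basicOpen (h y)) w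
    refine ⟨a, ?_, ?_⟩
    · show algebraMap Γ(X, V.1) Γ(X, X.basicOpen (h y)) a ∈ nonZeroDivisors Γ(X, X.basicOpen (h y))
      rw [← hw]
      exact mul_mem hf hu.mem_nonZeroDivisors
    · show M.ideal (X.affineBasicOpen (h y)) = Ideal.span {algebraMap Γ(X, V.1) Γ(X, X.basicOpen (h y)) a}
      rw [← hw, Ideal.span_singleton_mul_right_unit hu]
      exact hM
  choose a ha hMa using hgen
  have hmem : ∀ r : Γ(X, V.1), r ∈ M.ideal V ↔ ∀ y ∈ s, ∃ n : ℕ, a y ∣ h y ^ n * r := by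
    intro r
    have hloc' : ∀ y, (X.presheaf.map (homOfLE (X.basicOpen_le (h y))).op).hom r ∈ M.ideal (X.affineBasicOpen (h y)) ↔
        ∃ n : ℕ, a y ∣ h y ^ n * r := by
      intro y
      letI : Algebra Γ(X, V.1) Γ(X, X.basicOpen (h y)) := (X.presheaf.map (homOfLE (X.basicOpen_le (h y))).op).hom.toAlgebra
      haveI : IsLocalization.Away (h y) Γ(X, X.basicOpen (h y)) := V.2.isLocalization_basicOpen (h y)
      rw [hMa y, show Ideal.span {(X.presheaf.map (homOfLE (X.basicOpen_le (h y))).op).hom (a y)} =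
        (Ideal.span {a y}).map (algebraMap Γ(X, V.1) Γ(X, X.basicOpen (h y))) by rw [Ideal.map_span, Set.image_singleton]; rfl]
      refine (IsLocalization.algebraMap_mem_map_algebraMap_iff (Submonoid.powers (h y)) Γ(X, X.basicOpen (h y)) _ r).trans ?_
      simp only [Ideal.mem_span_singleton]
      exact ⟨fun ⟨_, ⟨n, rfl⟩, hn⟩ => ⟨n, hn⟩, fun ⟨n, hn⟩ => ⟨_, ⟨n, rfl⟩, hn⟩⟩
    refine ⟨fun hr y _ => (hloc' y).1 ?_, fun hr => ?_⟩
    · rw [← M.map_ideal (U := X.affineBasicOpen (h y)) (V := V) (X.basicOpen_le (h y))]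
      exact Ideal.mem_map_of_mem _ hr
    · refine Nagata6.mem_map_ideal U.ι D V (fun y : s => pre U (X.affineBasicOpen (h y.1)) (hhU y.1))
        (fun y => U.ι.preimage_mono (X.basicOpen_le _)) (fun z hz => ?_) r fun y => ?_
      · obtain ⟨y, hy, hzy⟩ := Set.mem_iUnion₂.1 (hs ⟨hz, z.2⟩)
        exact ⟨⟨y, hy⟩, hzy⟩
      · have h1 := Ideal.mem_map_of_mem (U.ι.appLE (X.basicOpen (h y.1)) (pre U (X.affineBasicOpen (h y.1)) (hhU y.1)).1 le_rfl).hom
          ((hloc' y.1).2 (hr y.1 y.2))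
        erw [← GrothLib.BlowUp.ideal_comap_eq_map M U.ι (X.affineBasicOpen (h y.1)) (pre U _ (hhU y.1)) le_rfl,
          comap_map_eq] at h1
        erw [← CommRingCat.comp_apply, Scheme.Hom.map_appLE] at h1
        exact h1
  -- the stalk is principal
  let π := algebraMap Γ(X, V.1) (X.presheaf.stalk x)
  obtain ⟨L, hL0, hL⟩ := exists_sat_finset s (fun y => π (h y)) (fun y => π (a y)) (by
    intro y _ hy0 hay
    obtain ⟨t, ht⟩ := (IsLocalization.map_eq_zero_iff P.asIdeal.primeCompl (X.presheaf.stalk x) (a y)).1 hay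
    letI : Algebra Γ(X, V.1) Γ(X, X.basicOpen (h y)) := (X.presheaf.map (homOfLE (X.basicOpen_le (h y))).op).hom.toAlgebra
    haveI : IsLocalization.Away (h y) Γ(X, X.basicOpen (h y)) := V.2.isLocalization_basicOpen (h y)
    have h1 : algebraMap Γ(X, V.1) Γ(X, X.basicOpen (h y)) t.1 = 0 := by
      refine (mem_nonZeroDivisors_iff_right.1 (ha y)) _ ?_
      show algebraMap Γ(X, V.1) Γ(X, X.basicOpen (h y)) t.1 * algebraMap Γ(X, V.1) Γ(X, X.basicOpen (h y)) (a y) = 0
      rw [← map_mul, ht, map_zero]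
    obtain ⟨⟨_, n, rfl⟩, hn⟩ := (IsLocalization.map_eq_zero_iff (Submonoid.powers (h y)) _ _).1 h1
    have h2 := congrArg π hn
    rw [map_mul, map_pow, map_zero] at h2
    rcases mul_eq_zero.1 h2 with h3 | h3
    · exact hy0 (eq_zero_of_pow_eq_zero h3)
    · exact (IsLocalization.map_units (X.presheaf.stalk x) t).ne_zero h3)
  obtain ⟨⟨g, w⟩, hw⟩ := IsLocalization.surj (M := P.asIdeal.primeCompl) (S := X.presheaf.stalk x) L
  have hu := IsLocalization.map_units (X.presheaf.stalk x) w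
  have hLg : ∀ b, π g ∣ b ↔ ∀ y ∈ s, ∃ n : ℕ, π (a y) ∣ π (h y) ^ n * b := fun b => by
    rw [show π g = L * π w from hw.symm, hu.mul_right_dvd, hL]
  refine exists_cartierOn_of_stalk_span M V P hxV g ?_ (le_antisymm ?_ ?_)
  · show π g ≠ 0
    rw [show π g = L * π w from hw.symm]
    exact mul_ne_zero hL0 hu.ne_zero
  · refine Ideal.map_le_iff_le_comap.2 fun r hr => Ideal.mem_span_singleton.2 ((hLg _).2 fun y hy => ?_)
    obtain ⟨n, hn⟩ := (hmem r).1 hr y hy
    exact ⟨n, by rw [← map_pow]; exact (map_dvd π hn).trans (map_mul π _ _).dvd⟩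
  · rw [Ideal.span_singleton_le_iff_mem]
    have hy : ∀ y ∈ s, ∃ (n : ℕ) (t : P.asIdeal.primeCompl), a y ∣ h y ^ n * ((t : Γ(X, V.1)) * g) := by
      intro y hy
      obtain ⟨n, hn⟩ := (hLg (π g)).1 dvd_rfl y hy
      rw [← map_pow, ← map_mul, ← Ideal.mem_span_singleton, ← Set.image_singleton, ← Ideal.map_span,
        IsLocalization.algebraMap_mem_map_algebraMap_iff P.asIdeal.primeCompl] at hn
      obtain ⟨m, hm, hmn⟩ := hn
      refine ⟨n, ⟨m, hm⟩, ?_⟩
      rw [Ideal.mem_span_singleton] at hmn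
      rwa [mul_left_comm]
    choose! n t ht using hy
    have hr : (∏ y ∈ s, (t y : Γ(X, V.1))) * g ∈ M.ideal V := (hmem _).2 fun y hy => ⟨n y, by
      obtain ⟨k, hk⟩ := Finset.dvd_prod_of_mem (fun y => (t y : Γ(X, V.1))) hy
      rw [hk, show (t y : Γ(X, V.1)) * k * g = k * (t y * g) by ring, mul_left_comm]
      exact (ht y hy).mul_left k⟩
    have h1 := Ideal.mem_map_of_mem π hr
    rw [map_mul, map_prod] at h1
    refine (Ideal.unit_mul_mem_iff_mem _ ?_).1 h1
    exact IsUnit.prod_iff.2 fun y _ => IsLocalization.map_units (X.presheaf.stalk x) (t y)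

end Extension

end GrothLib.CartierExt10
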